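import Groth.Agent.CMReg.Koszul
import Groth.Agent.GrModLib.TwistGen
import Groth.Agent.Props.AmpleTwist
import Groth.Agent.AmpleLib.Rel
import Groth.Agent.ProjTwist.Pn.MulX

/-!
A morphism out of a regular quasi-coherent module on `P^n_R` that kills global sections is zero.
-/

set_option autoImplicit false
set_option linter.style.haveILetI false

open CategoryTheory CategoryTheory.Limits AlgebraicGeometry TopologicalSpace Opposite

universe u

noncomputable section

namespace Groth.Agent.KRRReg49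

open Twist Groth.Agent.ProjTwist Groth.Agent.ProjTwist.Pn Groth.Agent.CMReg Groth.Agent.CohAff
open Groth.Agent.AmpCrit.NegVan (T)

variable {n : ℕ} {R : Type u} [CommRing R] {F : (CohB1.ProjSpace n R).Modules}

theorem muC_aug (F : (CohB1.ProjSpace n R).Modules) {d e : ℤ} (h : d + 1 = e) (j : Fin (n + 1))
    (t : Γ(twF F d, ⊤)) :
    muC F 0 h j (aug (shF F d).obj (cov n R) t) =
      aug (shF F e).obj (cov n R) ((mu F j h).app ⊤ t) :=
  cmap_aug _ _

/-- For a regular module, `⊕ H⁰(F(d)) → H⁰(F(d+1))` by the coordinates is surjective. -/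
theorem exists_eq_kd_mu (hF : Coh.IsQCoh F)
    (hreg : ∀ i : ℕ, 1 ≤ i → Subsingleton (Coh.HH (CohB1.ProjSpace n R) (twF F (-(i : ℤ))) i))
    {d e : ℤ} (hd0 : 0 ≤ d) (he : d + 1 = e) (t : Γ(twF F e, ⊤)) :
    ∃ y : Finset (Fin (n + 1)) → Γ(twF F d, ⊤),
      kd (fun j => ((mu F j he).app ⊤).hom) y ∅ = t := by
  have hreg' : ∀ i : ℕ, 1 ≤ i →
      Subsingleton (Coh.HH (CohB1.ProjSpace n R) (twF F ((0 : ℤ) - i)) i) :=
    fun i hi => by rw [zero_sub]; exact hreg i hi
  let c : Coch F e 0 := aug (shF F e).obj (cov n R) t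
  let z : Finset (Fin (n + 1)) → Coch F e 0 := fun S => if S = ∅ then c else 0
  have hz0 : ∀ S : Finset (Fin (n + 1)), S.card ≠ 0 → z S = 0 := fun S hS => by
    show (if S = ∅ then c else 0) = 0
    exact if_neg (fun h => hS (by rw [h]; rfl))
  have hz1 : ∀ S, kd (muC F 0 (rfl : e + 1 = e + 1)) z S = 0 := fun S => by
    refine Finset.sum_eq_zero fun j _ => ?_
    rw [hz0 _ (by simp), map_zero, smul_zero]
  obtain ⟨b, hb, hb'⟩ := exists_koszul F 0 he rfl z hz1 0 hz0
  have hd1 : d - 1 + 1 = d := sub_add_cancel d 1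
  have comm : ∀ (q : ℕ) {d e : ℤ} (h : d + 1 = e) (b : Finset (Fin (n + 1)) → Coch F d q) S,
      dC F e q (kd (muC F q h) b S) = kd (muC F (q + 1) h) (fun T => dC F d q (b T)) S :=
    fun q d e h b S => kd_map _ _ (dC F d q) (dC F e q) (fun j a => dC_muC F q h j a) b S
  have h1 : ∀ S, kd (muC F 1 he) (fun T => dC F d 0 (b T)) S = 0 := fun S => by
    rw [← comm 0 he b S, hb' S]
    show dC F e 0 (if S = ∅ then c else 0) = 0
    split_ifs
    · exact cd_aug _ _
    · exact map_zero _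
  obtain ⟨b2, hb2, hb2'⟩ := exists_koszul F 1 hd1 he (fun T => dC F d 0 (b T)) h1 1
    (fun S hS => by rw [hb S hS, map_zero])
  obtain ⟨a2, -, ha2⟩ := descend F hF (n + 1) 1 (by omega) 0 (d - 1) d hd1 b2 hb2
    (fun S => by rw [hb2' S]; exact cd_cd _ _ _ _)
    (fun j => propagate F hF 0 hreg' (0 + 1 + j) (d - 1 - j) (by omega) (by omega))
  have hcoc : ∀ S, dC F d 0 (b S - kd (muC F 0 hd1) a2 S) = 0 := fun S => by
    rw [map_sub, ha2, hb2', sub_self]
  have hex : ∀ S, ∃ y : Γ(twF F d, ⊤), aug (shF F d).obj (cov n R) y = b S - kd (muC F 0 hd1) a2 S :=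
    fun S => exists_aug_eq (shF F d) iSup_cov (hcoc S)
  choose y hy using hex
  refine ⟨y, aug_injective (shF F e) iSup_cov ?_⟩
  refine (kd_map (fun j => ((mu F j he).app ⊤).hom) (muC F 0 he) (aug (shF F d).obj (cov n R))
    (aug (shF F e).obj (cov n R)) (fun j a => (muC_aug F he j a).symm) y ∅).trans ?_
  refine (congrArg (fun w => kd (muC F 0 he) w ∅) (funext hy :
    (fun S => aug (shF F d).obj (cov n R) (y S)) = b - kd (muC F 0 hd1) a2)).trans ?_
  rw [kd_sub, kd_kd _ _ (fun j k a => muC_comm F 0 hd1 he j k a), sub_zero, hb']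
  exact if_pos rfl

variable {H : (CohB1.ProjSpace n R).Modules}

theorem map_comp_mu (φ : F ⟶ H) (j : Fin (n + 1)) {d e : ℤ} (h : d + 1 = e) :
    mu F j h ≫ (twFun n R e).map φ = (twFun n R d).map φ ≫ mu H j h := by
  have h1 : ∀ d, (twFun n R d).map φ = KoszTw.tensorMap φ (𝟙 (twistProjSpace n R d)) := fun d => by
    show ((DCoh.tensorBi (X := CohB1.ProjSpace n R)).map φ).app _ = _
    unfold KoszTw.tensorMap
    erw [CategoryTheory.Functor.map_id, Category.comp_id]
  rw [h1, h1]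
  refine (KoszTw.tensorMap_comp _ _ _ _).symm.trans (Eq.trans ?_ (KoszTw.tensorMap_comp _ _ _ _))
  rw [Category.id_comp, Category.comp_id, Category.comp_id, Category.id_comp]

/-- The twists of a morphism killing global sections kill global sections. -/
theorem tw_map_app_top_eq_zero (hF : Coh.IsQCoh F)
    (hreg : ∀ i : ℕ, 1 ≤ i → Subsingleton (Coh.HH (CohB1.ProjSpace n R) (twF F (-(i : ℤ))) i))
    (φ : F ⟶ H) (hφ : ∀ s, φ.app ⊤ s = 0) (k : ℕ) (t : Γ(twF F (k : ℤ), ⊤)) :
    ((twFun n R (k : ℤ)).map φ).app ⊤ t = 0 := by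
  induction k with
  | zero =>
    obtain ⟨eF⟩ : Nonempty (twFun n R ((0 : ℕ) : ℤ) ≅ 𝟭 _) := ⟨twZeroNat⟩
    have hn : (twFun n R ((0 : ℕ) : ℤ)).map φ = eF.hom.app F ≫ φ ≫ eF.inv.app H :=
      (NatIso.naturality_2 eF φ).symm
    rw [hn]
    show (eF.inv.app H).app ⊤ (φ.app ⊤ ((eF.hom.app F).app ⊤ t)) = 0
    rw [hφ, map_zero]
  | succ k ih =>
    have he : (k : ℤ) + 1 = ((k + 1 : ℕ) : ℤ) := by push_cast; rfl
    obtain ⟨y, rfl⟩ := exists_eq_kd_mu hF hreg (Int.natCast_nonneg k) he t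
    refine (map_sum _ _ _).trans (Finset.sum_eq_zero fun j _ => ?_)
    refine (map_zsmul _ _ _).trans ?_
    refine (congrArg _ ?_).trans (smul_zero _)
    refine (congr(Scheme.Modules.Hom.app $(map_comp_mu φ j he) ⊤ (y (insert j ∅)))).trans ?_
    show (mu H j he).app ⊤ (((twFun n R (k : ℤ)).map φ).app ⊤ (y (insert j ∅))) = 0
    exact (congrArg _ (ih _)).trans (map_zero _)

/-- A morphism out of a quasi-coherent module on an affine scheme is zero if it kills global sections. -/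
theorem hom_eq_zero_of_app_top {Y : Scheme.{u}} [IsAffine Y] {M N : Y.Modules} [M.IsQuasicoherent]
    (ψ : M ⟶ N) (h : ∀ s, ψ.app ⊤ s = 0) : ψ = 0 := by
  refine Scheme.Modules.hom_ext _ _ fun W => ?_
  ext m
  show ψ.app W m = 0
  have hloc : ∀ x : W, ∃ (P : Y.Opens) (hP : P ≤ W), x.1 ∈ P ∧
      ψ.app P (QCoh.res M hP m) = 0 := by
    intro x
    obtain ⟨a, ha', hxa⟩ := (isAffineOpen_top Y).exists_basicOpen_le (V := W) ⟨x.1, x.2⟩ trivial
    refine ⟨Y.basicOpen a, ha', hxa, ?_⟩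
    obtain ⟨k, t, ht⟩ := (QCoh.isLocalizingAt M (isAffineOpen_top Y) a).surj (QCoh.res M ha' m)
    have hu : IsUnit (QCoh.rres (Y.basicOpen_le a) a ^ k) :=
      (RingedSpace.isUnit_res_basicOpen _ a).pow k
    refine hu.smul_left_cancel.mp ?_
    rw [smul_zero, ← Scheme.Modules.Hom.app_smul, ← ht, QCoh.app_res, h, map_zero]
  choose P hP hxP hPe using hloc
  refine QCoh.eq_of_locally_eq N (U := P) hP
    (fun x hx => Opens.mem_iSup.mpr ⟨⟨x, hx⟩, hxP _⟩) _ _ fun x => ?_
  rw [map_zero, ← QCoh.app_res]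
  exact hPe x

theorem nonempty_tensorPow_twist (n : ℕ) (R : Type u) [CommRing R] (k : ℕ) :
    Nonempty (CohB1.tensorPow (twistProjSpace n R 1) k ≅ twistProjSpace n R (k : ℤ)) := by
  induction k with
  | zero => exact ⟨twistZeroIso (CohB1.polyGrading n R)⟩
  | succ m ih =>
    obtain ⟨a⟩ := ih
    obtain ⟨b⟩ := nonempty_twistProjSpace_tensor n R (m : ℤ) 1
    exact ⟨tensCongr a (Iso.refl _) ≪≫ b ≪≫ eqToIso (by push_cast; rfl)⟩

/-- A morphism out of a regular quasi-coherent module is zero if it kills global sections. -/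
theorem hom_eq_zero (hF : Coh.IsQCoh F)
    (hreg : ∀ i : ℕ, 1 ≤ i → Subsingleton (Coh.HH (CohB1.ProjSpace n R) (twF F (-(i : ℤ))) i))
    (φ : F ⟶ H) (hφ : ∀ s, φ.app ⊤ s = 0) : φ = 0 := by
  haveI : F.IsQuasicoherent := hF
  let L := twistProjSpace n R 1
  let f := CohB1.ProjSpace.toSpec n R
  haveI := ProjProper.Basic.isProper_toSpec n R
  have hL : PicF.IsInvertible L := isInvertible_twistProjSpace n R 1
  have hamp : CohB1.IsAmple L := by
    have := Props.AmpleTwist.compactSpace n R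
    exact Props.AmpleTwist.isAmple_twist (𝒜 := CohB1.polyGrading n R) (D := 1) Nat.one_pos
      (fun i : ULift.{u} (Fin (n + 1)) => Props.AmpleTwist.X_pow_mem n R 1 i.down)
      (Props.AmpleTwist.iSup_basicOpen_X_pow n R Nat.one_pos)
  let b := fun k => (nonempty_tensorPow_twist n R k).some
  have he : ∀ k : ℕ, Nonempty (CohB1.tensorMod (CohB1.tensorPow L k) (twistProjSpace n R (-(k : ℤ))) ≅
      Coh.structureModule (CohB1.ProjSpace n R)) := fun k => by
    obtain ⟨t⟩ := nonempty_twistProjSpace_tensor n R (k : ℤ) (-(k : ℤ))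
    exact ⟨tensCongr (b k) (Iso.refl _) ≪≫ t ≪≫
      eqToIso (congrArg (twistProjSpace n R) (by simp)) ≪≫
      (twistZeroIso (CohB1.polyGrading n R)).symm⟩
  let e := fun k => (he k).some
  obtain ⟨p, hp⟩ := GrModLib.exists_epi_pullback_push f hL (AmpleLib.isRelAmple_of_isAmple f hamp) F hF
    (fun k => twistProjSpace n R (-(k : ℤ))) e
  refine (cancel_epi p).1 ?_
  rw [comp_zero]
  refine Sigma.hom_ext _ _ fun j => ?_
  rw [comp_zero]
  set k := j.down.1
  let N := twistProjSpace n R (-(k : ℤ))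
  let P := CohB1.tensorPow L k
  let ν' := GrModLib.contrIso (P := N) (D := P) (tensComm _ _ ≪≫ e k)
  have hz : (Scheme.Modules.pushforward f).map ((T P).map φ) = 0 := by
    haveI : (twF F (k : ℤ)).IsQuasicoherent := isQCoh_tw F hF _
    haveI : ((twFun n R (k : ℤ)).obj F).IsQuasicoherent := isQCoh_tw F hF _
    haveI : ((Scheme.Modules.pushforward f).obj ((twFun n R (k : ℤ)).obj F)).IsQuasicoherent :=
      QCoh.isQuasicoherent_pushforward _ _
    have h0 : (Scheme.Modules.pushforward f).map ((twFun n R (k : ℤ)).map φ) = 0 :=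
      hom_eq_zero_of_app_top _ fun s => tw_map_app_top_eq_zero hF hreg φ hφ k s
    let w : T P ≅ twFun n R (k : ℤ) := (DCoh.tensorBi (X := CohB1.ProjSpace n R)).flip.mapIso (b k)
    have hw : (T P).map φ = w.hom.app F ≫ (twFun n R (k : ℤ)).map φ ≫ w.inv.app H :=
      (NatIso.naturality_2 w φ).symm
    rw [hw, Functor.map_comp, Functor.map_comp, h0, zero_comp, comp_zero]
  suffices h : (T P).map (Sigma.ι _ j ≫ p ≫ φ) = 0 by
    let ν := GrModLib.contrIso (e k)
    have h3 := congrArg (T N).map h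
    rw [Functor.map_zero] at h3
    refine Eq.trans (NatIso.naturality_1 ν (Sigma.ι _ j ≫ p ≫ φ)).symm ?_
    show ν.inv.app _ ≫ (T N).map ((T P).map (Sigma.ι _ j ≫ p ≫ φ)) ≫ ν.hom.app _ = 0
    rw [h3, zero_comp, comp_zero]
  rw [← Category.assoc, Functor.map_comp]
  let A := (Scheme.Modules.pullback f).obj ((Coh.push f).obj (CohB1.tensorMod F P))
  refine (cancel_epi (ν'.inv.app A)).1 ?_
  refine Eq.trans ?_ comp_zero.symm
  refine (Category.assoc _ _ _).symm.trans ?_
  apply ((Scheme.Modules.pullbackPushforwardAdjunction f).homEquiv _ _).injective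
  rw [Adjunction.homEquiv_naturality_right, hz, comp_zero]
  simp [Adjunction.homEquiv_unit]

end Groth.Agent.KRRReg49
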