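import Groth.Agent.GrModLib.TwistInt
import Groth.Agent.CohAff.RcIso
import Groth.Agent.KRRLib.RegSES
import Groth.Agent.CMReg.Koszul

/-!
Regularity relative to `P^n_T ⟶ T` in terms of cohomology on the charts over affine opens.
-/

set_option autoImplicit false
set_option linter.style.haveILetI false

open CategoryTheory CategoryTheory.Limits AlgebraicGeometry TopologicalSpace Opposite

universe u

noncomputable section

namespace Groth.Agent.KRRReg49

open Groth.Agent.CohAff Groth.Agent.ProjTwist Groth.Agent.ProjTwist.Pn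

variable {X Y : Scheme.{u}}

/-- The cohomology over the preimage of an affine open is killed with the higher direct image. -/
theorem subsingleton_HH_chart (f : X ⟶ Y) [QuasiCompact f] [QuasiSeparated f] (M : X.Modules)
    [M.IsQuasicoherent] (i : ℕ) (hi : 1 ≤ i)
    (h : IsZero ((Coh.RpushAb f i).obj (Coh.toAb M))) {V : Y.Opens} (hV : IsAffineOpen V)
    {Z : Scheme.{u}} (j : Z ⟶ X) [IsOpenImmersion j] (hr : j.opensRange = f ⁻¹ᵁ V) :
    Subsingleton (Coh.HH Z (M.restrict j) i) := by
  obtain ⟨m, rfl⟩ := Nat.exists_eq_add_of_le' hi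
  let R := FRes.ofMod M
  haveI : (R.Z 0).IsQuasicoherent := inferInstanceAs M.IsQuasicoherent
  have hz : IsZero ((ModShf.toAbFunctor Y).obj ((Coh.Rpush f (m + 1)).obj M)) :=
    h.of_iso ((ModShf.rpushCompToAb f (m + 1)).app M)
  have hz' : IsZero ((ModShf.toAbFunctor Y).obj (R.Rc f m)) :=
    hz.of_iso ((ModShf.toAbFunctor Y).mapIso (R.rpushIsoRc f m).symm)
  have hsec : Subsingleton Γ(R.Rc f m, V) :=
    AddCommGrpCat.subsingleton_of_isZero
      (((sheafToPresheaf (Opens.grothendieckTopology Y) AddCommGrpCat.{u}) ⋙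
        (evaluation _ _).obj (op V)).map_isZero hz')
  have hHU : Subsingleton (CohTop.HU (Coh.toAb (R.Z 0)) (m + 1) (f ⁻¹ᵁ V)) := by
    refine subsingleton_of_forall_eq 0 fun x => ?_
    obtain ⟨z, rfl⟩ := R.cls_surjective (m + 1) (f ⁻¹ᵁ V) x
    exact (R.cls_eq_zero_iff (m + 1) _ z).2
      (R.ex_of_π'_eq_zero f hV m z (@Subsingleton.elim _ hsec _ _))
  rw [← hr] at hHU
  let U := j.opensRange
  let e : Z ≅ (U : Scheme.{u}) := IsOpenImmersion.isoOfRangeEq j U.ι (by simp [U])
  have he : e.hom ≫ U.ι = j := IsOpenImmersion.isoOfRangeEq_hom_fac _ _ _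
  have he' : e.inv ≫ j = U.ι := by rw [← he, Iso.inv_hom_id_assoc]
  haveI : (M.restrict j).IsQuasicoherent := Scheme.Modules.isQuasicoherent_restrictFunctor j M
  obtain ⟨e'⟩ := GrModLib.nonempty_push_inv_iso e.symm (M.restrict j)
  let e'' : (Coh.push e.hom).obj (M.restrict j) ≅ M.restrict U.ι :=
    e' ≪≫ ((Scheme.Modules.restrictFunctorComp e.inv j).app M).symm ≪≫
      (Scheme.Modules.restrictFunctorCongr he').app M
  have h2 : Subsingleton (Coh.HH (U : Scheme.{u}) (M.restrict U.ι) (m + 1)) :=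
    (CohTop.Restrict.HUEquivRestr (Coh.toAb M) U (m + 1)).toEquiv.subsingleton_congr.mp hHU
  haveI : Subsingleton (Coh.HH (U : Scheme.{u}) ((Coh.push e.hom).obj (M.restrict j)) (m + 1)) :=
    (CohLin.hIso e'' (m + 1)).injective.subsingleton
  exact GrModLib.subsingleton_HH_of_push e.hom (M.restrict j) (m + 1)

variable {n : ℕ} {T : Scheme.{u}}

/-- `F(d)` restricted to the chart over an affine open. -/
theorem nonempty_restrict_twF {V : T.Opens} (hV : IsAffineOpen V) (F : (KRR.PY n T).Modules) (d : ℤ) :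
    letI := TwistFlat.isOpenImmersion_chart n hV
    Nonempty ((KRR.twF n T d F).restrict (TwistFlat.chart n hV) ≅
      twF (F.restrict (TwistFlat.chart n hV)) d) :=
  letI := TwistFlat.isOpenImmersion_chart n hV
  ⟨(Scheme.Modules.restrictFunctor (TwistFlat.chart n hV)).mapIso
      (tensComm (Twist.twistOver n T d) F) ≪≫
    (Scheme.Modules.restrictFunctorIsoPullback _).app _ ≪≫
    KFlat.PullTensor.pullTensorIso (TwistFlat.chart n hV) F (Twist.twistOver n T d) ≪≫
    tensCongr ((Scheme.Modules.restrictFunctorIsoPullback (TwistFlat.chart n hV)).app F).symm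
      (((Scheme.Modules.restrictFunctorIsoPullback (TwistFlat.chart n hV)).app _).symm ≪≫
        (GrModLib.nonempty_restrict_twistOver n hV d).some)⟩

theorem isQCoh_twF {F : (KRR.PY n T).Modules} (hF : Coh.IsQCoh F) (d : ℤ) :
    Coh.IsQCoh (KRR.twF n T d F) :=
  haveI : F.IsQuasicoherent := hF
  haveI : (Twist.twistOver n T d).IsQuasicoherent := TwistFlat.isQCoh_twistOver n T d
  LimTop.TensorQC.isQuasicoherent_tensM (Twist.twistOver n T d) F

/-- Vanishing of `R^i p_* (F(d))`, read on a chart. -/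
theorem subsingleton_of_isZero_twF {F : (KRR.PY n T).Modules} (hF : Coh.IsQCoh F) (d : ℤ) (i : ℕ)
    (hi : 1 ≤ i) (h : IsZero ((Coh.RpushAb (KRR.pr n T) i).obj (Coh.toAb (KRR.twF n T d F))))
    {V : T.Opens} (hV : IsAffineOpen V) :
    letI := TwistFlat.isOpenImmersion_chart n hV
    Subsingleton (Coh.HH (CohB1.ProjSpace n Γ(T, V)) (twF (F.restrict (TwistFlat.chart n hV)) d) i) := by
  letI := TwistFlat.isOpenImmersion_chart n hV
  haveI := TwistFlat.isProper_toBase n T
  haveI : (KRR.twF n T d F).IsQuasicoherent := isQCoh_twF hF d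
  obtain ⟨e⟩ := nonempty_restrict_twF hV F d
  have := subsingleton_HH_chart (KRR.pr n T) (KRR.twF n T d F) i hi h hV (TwistFlat.chart n hV)
    (GrModLib.opensRange_chart n hV)
  exact (CohLin.hIso e.symm i).injective.subsingleton

/-- Castelnuovo-Mumford for `P^n_T ⟶ T`. -/
theorem isZero_twF_of_isRegSheaf {F : (KRR.PY n T).Modules} (hF : Coh.IsQCoh F)
    (hreg : KRR.IsRegSheaf n T F) (i : ℕ) (hi : 1 ≤ i) (d : ℤ) (hd : -(i : ℤ) ≤ d) :
    IsZero ((Coh.RpushAb (KRR.pr n T) i).obj (Coh.toAb (KRR.twF n T d F))) := by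
  haveI : (KRR.twF n T d F).IsQuasicoherent := isQCoh_twF hF d
  refine GrModLib.isZero_RpushAb_of_charts _ _ i fun V hV => ?_
  letI := TwistFlat.isOpenImmersion_chart n hV
  refine ⟨_, TwistFlat.chart n hV, inferInstance, GrModLib.opensRange_chart n hV, ?_⟩
  haveI : F.IsQuasicoherent := hF
  have := CMReg.propagate (F.restrict (TwistFlat.chart n hV))
    (Scheme.Modules.isQuasicoherent_restrictFunctor _ F) 0
    (fun a ha => by rw [zero_sub]; exact subsingleton_of_isZero_twF hF _ a ha (hreg a ha) hV)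
    i d hi (by omega)
  obtain ⟨e⟩ := nonempty_restrict_twF hV F d
  exact (CohLin.hIso e i).injective.subsingleton

end Groth.Agent.KRRReg49
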