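import Groth.Agent.KRRReg49.Vanish
import Groth.Agent.GrModLib.NegTwist
import Groth.Agent.S19429

/-!
The kernel of `p^* p_* F ⟶ F` for a regular quasi-coherent module on `P^n_T`.
-/

set_option autoImplicit false
set_option linter.style.haveILetI false

open CategoryTheory CategoryTheory.Limits AlgebraicGeometry TopologicalSpace Opposite

universe u

noncomputable section

namespace Groth.Agent.KRRReg49

open Groth.Agent.ProjTwist Groth.Agent.ProjTwist.Pn

variable {n : ℕ} {T : Scheme.{u}}

/-- `(p^* G)(1)` is regular. -/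
theorem isRegSheaf_twF_one_pullback (G : T.Modules) (hG : Coh.IsQCoh G) :
    KRR.IsRegSheaf n T (KRR.twF n T 1 ((Scheme.Modules.pullback (KRR.pr n T)).obj G)) := by
  intro i hi
  haveI : G.IsQuasicoherent := hG
  have hP : Coh.IsQCoh ((Scheme.Modules.pullback (KRR.pr n T)).obj G) :=
    QCoh.isQuasicoherent_pullback _ G
  refine KRRLib.isZero_congr (KRRLib.twTw _ 1 (-(i : ℤ)) (1 - (i : ℤ)) (by ring)).symm i ?_
  haveI : (KRR.twF n T (1 - (i : ℤ)) ((Scheme.Modules.pullback (KRR.pr n T)).obj G)).IsQuasicoherent :=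
    isQCoh_twF hP _
  refine GrModLib.isZero_RpushAb_of_charts _ _ i fun V hV => ?_
  letI := TwistFlat.isOpenImmersion_chart n hV
  refine ⟨_, TwistFlat.chart n hV, inferInstance, GrModLib.opensRange_chart n hV, ?_⟩
  obtain ⟨e⟩ := nonempty_restrict_twF hV ((Scheme.Modules.pullback (KRR.pr n T)).obj G) (1 - (i : ℤ))
  haveI : ((Scheme.Modules.pullback hV.fromSpec).obj G).IsQuasicoherent :=
    QCoh.isQuasicoherent_pullback _ G
  let e' : ((Scheme.Modules.pullback (KRR.pr n T)).obj G).restrict (TwistFlat.chart n hV) ≅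
      (GrModLib.NegTwist.pb n Γ(T, V)).obj ((Scheme.Modules.pullback hV.fromSpec).obj G) :=
    (Scheme.Modules.restrictFunctorIsoPullback _).app _ ≪≫
      (Scheme.Modules.pullbackComp _ _).app _ ≪≫
      (Scheme.Modules.pullbackCongr (TwistFlat.isPullback_chart n hV).w.symm).app _ ≪≫
      ((Scheme.Modules.pullbackComp _ _).app _).symm
  have h : Subsingleton (Coh.HH (CohB1.ProjSpace n Γ(T, V))
      (twF ((GrModLib.NegTwist.pb n Γ(T, V)).obj ((Scheme.Modules.pullback hV.fromSpec).obj G)) (1 - (i : ℤ))) i) := by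
    by_cases hin : i ≤ n + 1
    · exact GrModLib.NegTwist.subsingleton_of_ge (n + 1) i (by omega) hi _ _ (by omega)
    · exact Pn.subsingleton_above _ (Pn.isQCoh_tw _ (QCoh.isQuasicoherent_pullback _ _) _) i (by omega)
  exact (CohLin.hIso (e ≪≫ tensCongr e' (Iso.refl _)) i).injective.subsingleton

/-- Regularity of the kernel of an epimorphism which stays epi on direct images. -/
theorem reg_kernel {F : (KRR.PY n T).Modules} (P : (KRR.PY n T).Modules) (g : P ⟶ F) (hg : Epi g)
    (hP : KRR.IsRegSheaf n T (KRR.twF n T 1 P)) (hF : KRR.IsRegSheaf n T F)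
    (hp : Epi ((Scheme.Modules.pushforward (KRR.pr n T)).map g)) :
    KRR.IsRegSheaf n T (KRR.twF n T 1 (kernel g)) :=
  KRRLib.reg_left (S := ShortComplex.mk (kernel.ι g) g (kernel.condition _))
    (ShortComplex.ShortExact.mk' (ShortComplex.exact_of_f_is_kernel _ (kernelIsKernel _))
      inferInstance hg) hP hF hp

/-- The kernel `Z` of the counit of a regular module has `Z(1)` regular. -/
theorem isRegSheaf_twF_one_kernel_counit {F : (KRR.PY n T).Modules} (hF : Coh.IsQCoh F)
    (hreg : KRR.IsRegSheaf n T F) :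
    KRR.IsRegSheaf n T (KRR.twF n T 1
      (kernel ((Scheme.Modules.pullbackPushforwardAdjunction (KRR.pr n T)).counit.app F))) := by
  haveI := TwistFlat.isProper_toBase n T
  haveI : F.IsQuasicoherent := hF
  have hG : Coh.IsQCoh ((Scheme.Modules.pushforward (KRR.pr n T)).obj F) :=
    QCoh.isQuasicoherent_pushforward _ _
  exact reg_kernel (F := F) ((Scheme.Modules.pullback (KRR.pr n T)).obj
      ((Scheme.Modules.pushforward (KRR.pr n T)).obj F))
    ((Scheme.Modules.pullbackPushforwardAdjunction (KRR.pr n T)).counit.app F)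
    (S19429.result n T F hF hreg) (isRegSheaf_twF_one_pullback _ hG) hreg
    (epi_of_epi_fac ((Scheme.Modules.pullbackPushforwardAdjunction (KRR.pr n T)).right_triangle_components F))

/-- The kernel of the counit is quasi-coherent. -/
theorem isQCoh_kernel_counit {F : (KRR.PY n T).Modules} (hF : Coh.IsQCoh F) :
    Coh.IsQCoh (kernel ((Scheme.Modules.pullbackPushforwardAdjunction (KRR.pr n T)).counit.app F)) := by
  haveI := TwistFlat.isProper_toBase n T
  haveI : F.IsQuasicoherent := hF
  haveI : ((Scheme.Modules.pushforward (KRR.pr n T)).obj F).IsQuasicoherent :=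
    QCoh.isQuasicoherent_pushforward _ _
  haveI : ((𝟭 _ : (KRR.PY n T).Modules ⥤ _).obj F).IsQuasicoherent := hF
  haveI : ((Scheme.Modules.pushforward (KRR.pr n T) ⋙ Scheme.Modules.pullback (KRR.pr n T)).obj F).IsQuasicoherent :=
    QCoh.isQuasicoherent_pullback _ _
  exact QCoh.isQuasicoherent_kernel _

end Groth.Agent.KRRReg49
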