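import Groth.Agent.TwistFlat.Pn

/-!
Flat finite global sections of a twist without higher cohomology.
-/

set_option autoImplicit false
set_option linter.style.haveILetI false

open CategoryTheory CategoryTheory.Limits AlgebraicGeometry TopologicalSpace Opposite
open Groth.Agent.QCoh Groth.Agent.Props.GenLocus Groth.Agent.Props.GenTensor
open Groth.Agent.ProjTwist Groth.Agent.ProjTwist.Pn

universe u

noncomputable section

namespace Groth.Agent.KRRReg49

open Groth.Agent.TwistFlat

variable {n : ℕ} {A : Type u} [CommRing A] [IsNoetherianRing A] {G : (CohB1.ProjSpace n A).Modules}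

theorem flat_finite_of_vanishing (hG : Coh.IsCoh G)
    (hfl : FlatMod.IsFlatOver (CohB1.ProjSpace.toSpec n A) G)
    (d : ℕ) (hvan : ∀ p : ℕ, 0 < p → Subsingleton (Coh.HH (CohB1.ProjSpace n A) (twF G d) p)) :
      Module.Flat Γ(Spec (CommRingCat.of A), ⊤)
        Γ((Coh.push (CohB1.ProjSpace.toSpec n A)).obj (twF G d), ⊤) ∧
      Module.Finite Γ(Spec (CommRingCat.of A), ⊤)
        Γ((Coh.push (CohB1.ProjSpace.toSpec n A)).obj (twF G d), ⊤) := by
  let q := CohB1.ProjSpace.toSpec n A
  haveI : IsProper q := ProjProper.Basic.isProper_toSpec n A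
  haveI : (twF G d).IsQuasicoherent := isQCoh_tw G hG.1 d
  have hflt : FlatMod.IsFlatOver q (twF G d) :=
    haveI := hG.1
    isFlatOver_tensor q G (isInvertible_twistProjSpace n A d) hfl
  have hV := isAffineOpen_top (Spec (CommRingCat.of A))
  obtain ⟨D⟩ := CBC.nonempty_model q hV
  have h0 : ∀ m, Subsingleton ((D.K (twF G d)).H₀ (m + 1)) := fun m => by
    haveI := hvan (m + 1) m.succ_pos
    have hcov : ⨆ i, D.U i = ⊤ := top_le_iff.mp D.cov
    exact (CBC.hTop_bijective (q.app ⊤).hom hcov (twF G d) D.aff (m + 1)).1.subsingleton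
  refine ⟨flat_push_of_vanishing q hV D _ hflt h0, ?_⟩
  letI : (CohB1.ProjSpace n A).Over (Spec (CommRingCat.of A)) := ⟨q⟩
  haveI := finite_cohomology (twF G d) (isCoh_tw hG d) 0
  let σ : A →+* Γ(Spec (CommRingCat.of A), ⊤) := (Scheme.ΓSpecIso (CommRingCat.of A)).inv.hom
  haveI : RingHomSurjective σ :=
    ⟨fun y => ⟨(Scheme.ΓSpecIso (CommRingCat.of A)).hom y,
      Iso.hom_inv_id_apply (Scheme.ΓSpecIso (CommRingCat.of A)) y⟩⟩
  let ψ : Coh.HH (CohB1.ProjSpace n A) (twF G d) 0 →ₛₗ[σ]
      Γ((Coh.push q).obj (twF G d), ⊤) :=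
    { toFun := fun x => ProperFin.h0Sec (twF G d) x
      map_add' := fun a b => map_add (ProperFin.h0Sec (twF G d)) a b
      map_smul' := fun a x => ProperFin.h0Sec_smul (twF G d) (Coh.toGlobal q a) x }
  exact Module.Finite.of_surjective ψ (ProperFin.h0Sec (twF G d)).surjective

end Groth.Agent.KRRReg49
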